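import Mathlib
import Groth.Prelude.Def_SGA3b

/-!
# Groups of multiplicative type in Hopf-algebra form: base change and descent (helper6)
-/

set_option autoImplicit false
universe u
open TensorProduct SGA3b Coalgebra

namespace Groth.Agent.Lib.Helper6.MultType

section BaseChange

variable (R : Type u) [CommRing R] (R' : Type u) [CommRing R'] [Algebra R R']

/-- `R' ⊗[R] R[M] ≃ R'[M]` as bialgebras. -/
noncomputable def scalarTensorBialgEquiv (M : Type u) [CommGroup M] :
    R' ⊗[R] MonoidAlgebra R M ≃ₐc[R'] MonoidAlgebra R' M :=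
  BialgEquiv.ofAlgEquiv (MonoidAlgebra.scalarTensorEquiv R R')
    (by ext x; simp)
    (by ext x; simp)

variable {R} in
/-- Base change of a bialgebra equivalence. -/
noncomputable def baseChangeBialgEquiv {A B : Type u} [CommRing A] [Bialgebra R A] [CommRing B]
    [Bialgebra R B] (e : A ≃ₐc[R] B) : R' ⊗[R] A ≃ₐc[R'] R' ⊗[R] B :=
  BialgEquiv.ofBialgHom (Bialgebra.TensorProduct.map (BialgHom.id R' R') (e : A →ₐc[R] B))
    (Bialgebra.TensorProduct.map (BialgHom.id R' R') (e.symm : B →ₐc[R] A))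
    (by
      ext x
      induction x using TensorProduct.induction_on with
      | zero => simp only [map_zero]
      | tmul a b => simp
      | add y z hy hz => simp only [map_add, hy, hz])
    (by
      ext x
      induction x using TensorProduct.induction_on with
      | zero => simp only [map_zero]
      | tmul a b => simp
      | add y z hy hz => simp only [map_add, hy, hz])

@[simp] lemma baseChangeBialgEquiv_tmul {A B : Type u} [CommRing A] [Bialgebra R A] [CommRing B]
    [Bialgebra R B] (e : A ≃ₐc[R] B) (r : R') (a : A) :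
    baseChangeBialgEquiv R' e (r ⊗ₜ a) = r ⊗ₜ e a := rfl

variable (A : Type u) [CommRing A] [Bialgebra R A]

/-- The natural semilinear ring hom `A ⊗[R] A → (R' ⊗ A) ⊗[R'] (R' ⊗ A)`. -/
noncomputable def T₀ : A ⊗[R] A →+* (R' ⊗[R] A) ⊗[R'] (R' ⊗[R] A) :=
  Algebra.TensorProduct.mapRingHom (algebraMap R R')
    (RingHomClass.toRingHom (Algebra.TensorProduct.includeRight (R := R) (A := R') (B := A)))
    (RingHomClass.toRingHom (Algebra.TensorProduct.includeRight (R := R) (A := R') (B := A)))
    (by simp [← IsScalarTower.algebraMap_eq])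
    (by simp [← IsScalarTower.algebraMap_eq])

@[simp] lemma T₀_tmul (a b : A) :
    T₀ R R' A (a ⊗ₜ b) = ((1 : R') ⊗ₜ[R] a) ⊗ₜ[R'] ((1 : R') ⊗ₜ[R] b) := by
  simp [T₀]

lemma T₀_algebraMap (r : R) :
    T₀ R R' A (algebraMap R (A ⊗[R] A) r) =
      algebraMap R' ((R' ⊗[R] A) ⊗[R'] (R' ⊗[R] A)) (algebraMap R R' r) := by
  rw [Algebra.TensorProduct.algebraMap_apply, T₀_tmul, Algebra.TensorProduct.algebraMap_apply,
    Algebra.TensorProduct.algebraMap_apply, Algebra.algebraMap_self_apply,
    Algebra.algebraMap_eq_smul_one r, ← TensorProduct.smul_tmul, Algebra.smul_def, mul_one]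
  rfl

lemma comul_one_tmul (a : A) :
    comul (R := R') ((1 : R') ⊗ₜ[R] a) = T₀ R R' A (comul (R := R) a) := by
  have := congr($(Bialgebra.comul_includeRight (R := R) (A := R') (B := A)) a)
  exact this

lemma counit_one_tmul (a : A) :
    counit (R := R') ((1 : R') ⊗ₜ[R] a) = algebraMap R R' (counit (R := R) a) := by
  simp [Algebra.algebraMap_eq_smul_one]

variable (R'' : Type u) [CommRing R''] [Algebra R R''] [Algebra R' R''] [IsScalarTower R R' R'']

/-- `R'' ⊗[R'] (R' ⊗[R] A) ≃ R'' ⊗[R] A` as bialgebras. -/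
noncomputable def cancelBaseChangeBialgEquiv :
    R'' ⊗[R'] (R' ⊗[R] A) ≃ₐc[R''] R'' ⊗[R] A :=
  BialgEquiv.ofAlgEquiv (Algebra.TensorProduct.cancelBaseChange R R' R'' R'' A)
    (by ext x; simp [Algebra.smul_def])
    (by
      ext x
      have key : ∀ y : A ⊗[R] A, (Algebra.TensorProduct.map
          (Algebra.TensorProduct.cancelBaseChange R R' R'' R'' A : _ →ₐ[R''] _)
          (Algebra.TensorProduct.cancelBaseChange R R' R'' R'' A : _ →ₐ[R''] _))
          (T₀ R' R'' (R' ⊗[R] A) (T₀ R R' A y)) = T₀ R R'' A y := by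
        intro y
        induction y using TensorProduct.induction_on with
        | zero => simp only [map_zero]
        | tmul a b => simp
        | add y z hy hz => simp only [map_add, hy, hz]
      have h1 := comul_one_tmul R' R'' (R' ⊗[R] A) ((1 : R') ⊗ₜ[R] x)
      have h2 := comul_one_tmul R R' A x
      have h3 := comul_one_tmul R R'' A x
      simp only [AlgHom.coe_comp, AlgHom.coe_restrictScalars', Function.comp_apply,
        Algebra.TensorProduct.includeRight_apply, Bialgebra.comulAlgHom_apply, AlgEquiv.coe_toAlgHom,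
        Algebra.TensorProduct.cancelBaseChange_tmul, one_smul]
      rw [h1, h2, h3]
      exact key _)

@[simp] lemma cancelBaseChangeBialgEquiv_tmul (r : R'') (s : R') (a : A) :
    cancelBaseChangeBialgEquiv R R' A R'' (r ⊗ₜ (s ⊗ₜ a)) = (s • r) ⊗ₜ a :=
  Algebra.TensorProduct.cancelBaseChange_tmul R R' R'' R'' A r s a

@[simp] lemma cancelBaseChangeBialgEquiv_symm_tmul (r : R'') (a : A) :
    (cancelBaseChangeBialgEquiv R R' A R'').symm (r ⊗ₜ a) = r ⊗ₜ ((1 : R') ⊗ₜ a) :=
  Algebra.TensorProduct.cancelBaseChange_symm_tmul R R' R'' R'' A r a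

end BaseChange

section IsDiag

variable {R : Type u} [CommRing R] {A : Type u} [CommRing A] [HopfAlgebra R A]

lemma IsDiag.baseChange (h : IsDiag R A) (R' : Type u) [CommRing R'] [Algebra R R'] :
    IsDiag R' (R' ⊗[R] A) := by
  obtain ⟨M, _, ⟨e⟩⟩ := h
  exact ⟨M, inferInstance, ⟨(baseChangeBialgEquiv R' e).trans (scalarTensorBialgEquiv R R' M)⟩⟩

lemma IsDiag.of_tower (R' : Type u) [CommRing R'] [Algebra R R']
    (R'' : Type u) [CommRing R''] [Algebra R R''] [Algebra R' R''] [IsScalarTower R R' R'']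
    (h : IsDiag R'' (R'' ⊗[R'] (R' ⊗[R] A))) : IsDiag R'' (R'' ⊗[R] A) := by
  obtain ⟨M, _, ⟨e⟩⟩ := h
  exact ⟨M, inferInstance, ⟨(cancelBaseChangeBialgEquiv R R' A R'').symm.trans e⟩⟩

lemma IsDiag.to_tower (R' : Type u) [CommRing R'] [Algebra R R']
    (R'' : Type u) [CommRing R''] [Algebra R R''] [Algebra R' R''] [IsScalarTower R R' R'']
    (h : IsDiag R'' (R'' ⊗[R] A)) : IsDiag R'' (R'' ⊗[R'] (R' ⊗[R] A)) := by
  obtain ⟨M, _, ⟨e⟩⟩ := h
  exact ⟨M, inferInstance, ⟨(cancelBaseChangeBialgEquiv R R' A R'').trans e⟩⟩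

end IsDiag

end Groth.Agent.Lib.Helper6.MultType
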