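import Mathlib
import Groth.Prelude.Def_SGA3b
import Groth.Agent.Lib.Helper6.MultType.Basic

/-!
# Charts of a group of multiplicative type and descent of memberships (helper6)
-/

set_option autoImplicit false
universe u
open TensorProduct SGA3b Coalgebra

namespace Groth.Agent.Lib.Helper6.MultType

variable {R : Type u} [CommRing R] {A : Type u} [CommRing A] [HopfAlgebra R A]

/-- For every proper ideal `𝔭` of `R` a flat `R`-algebra `R'` with `𝔭 R' ≠ R'` over which `A` is
diagonalisable. -/
theorem IsMultType.exists_chart (h : IsMultType R A) (𝔭 : Ideal R) (h𝔭 : 𝔭 ≠ ⊤) :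
    ∃ (R' : Type u) (_ : CommRing R') (_ : Algebra R R'), Module.Flat R R' ∧
      Ideal.map (algebraMap R R') 𝔭 ≠ ⊤ ∧ IsDiag R' (R' ⊗[R] A) := by
  obtain ⟨s, hs, H⟩ := h
  obtain ⟨𝔪, h𝔪, hle⟩ := 𝔭.exists_le_maximal h𝔭
  obtain ⟨f, hfs, hf⟩ : ∃ f ∈ s, f ∉ 𝔪 := by
    by_contra hcon
    push_neg at hcon
    have : Ideal.span s ≤ 𝔪 := Ideal.span_le.mpr hcon
    rw [hs] at this
    exact h𝔪.ne_top (top_le_iff.mp this)
  obtain ⟨R', _, _, hff, hd⟩ := H f hfs
  letI : Algebra R R' :=
    ((algebraMap (Localization.Away f) R').comp (algebraMap R (Localization.Away f))).toAlgebra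
  haveI : IsScalarTower R (Localization.Away f) R' := IsScalarTower.of_algebraMap_eq' rfl
  refine ⟨R', inferInstance, inferInstance, ?_, ?_, IsDiag.of_tower (Localization.Away f) R' hd⟩
  · haveI : Module.Flat R (Localization.Away f) := IsLocalization.flat _ (Submonoid.powers f)
    exact Module.Flat.trans R (Localization.Away f) R'
  · have hdisj : Disjoint (Submonoid.powers f : Set R) (𝔪 : Set R) := by
      rw [Set.disjoint_left]
      rintro x ⟨n, rfl⟩ hx
      exact hf (h𝔪.isPrime.mem_of_pow_mem n hx)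
    have hprime := IsLocalization.isPrime_of_isPrime_disjoint (Submonoid.powers f)
      (Localization.Away f) 𝔪 h𝔪.isPrime hdisj
    have hne := ((Module.FaithfullyFlat.iff_flat_and_proper_ideal _ _).mp hff).2 _ hprime.ne_top
    intro htop
    apply hne
    rw [Ideal.smul_top_eq_map]
    have h1 : Ideal.map (algebraMap R R') 𝔭 ≤
        Ideal.map (algebraMap (Localization.Away f) R')
          (Ideal.map (algebraMap R (Localization.Away f)) 𝔪) := by
      rw [Ideal.map_map]
      exact Ideal.map_mono hle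
    rw [htop, top_le_iff] at h1
    rw [h1]
    rfl

/-- Descent of membership in `𝔞 A` along the charts of a group of multiplicative type: more
generally for any `R`-algebra `B` (here only `A` matters through its charts). -/
theorem IsMultType.mem_map_of_forall_chart (h : IsMultType R A) {B : Type u} [CommRing B]
    [Algebra R B] (𝔞 : Ideal R) (b : B)
    (H : ∀ (R' : Type u) [CommRing R'] [Algebra R R'], Module.Flat R R' → IsDiag R' (R' ⊗[R] A) →
      ((1 : R') ⊗ₜ[R] b) ∈ Ideal.map (algebraMap R (R' ⊗[R] B)) 𝔞) :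
    b ∈ Ideal.map (algebraMap R B) 𝔞 := by
  set J := Ideal.map (algebraMap R B) 𝔞 with hJ
  let g : R →ₗ[R] B ⧸ J := LinearMap.toSpanSingleton R (B ⧸ J) (Ideal.Quotient.mk J b)
  by_contra hb
  have hker : LinearMap.ker g ≠ ⊤ := by
    intro htop
    apply hb
    have : (1 : R) ∈ LinearMap.ker g := htop ▸ Submodule.mem_top
    rw [LinearMap.mem_ker] at this
    simpa [g, Ideal.Quotient.eq_zero_iff_mem] using this
  obtain ⟨R', _, _, hflat, hne, hd⟩ := IsMultType.exists_chart h (LinearMap.ker g) hker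
  apply hne
  specialize H R' hflat hd
  -- the ring hom `R' ⊗ B → R' ⊗ (B ⧸ J)` kills `𝔞`
  let Q : R' ⊗[R] B →ₐ[R'] R' ⊗[R] (B ⧸ J) :=
    Algebra.TensorProduct.map (AlgHom.id R' R') (Ideal.Quotient.mkₐ R J)
  have hQ : Q ((1 : R') ⊗ₜ[R] b) = 0 := by
    have hle : Ideal.map (algebraMap R (R' ⊗[R] B)) 𝔞 ≤ RingHom.ker Q.toRingHom := by
      rw [Ideal.map_le_iff_le_comap]
      intro i hi
      rw [Ideal.mem_comap, RingHom.mem_ker]
      have : algebraMap R (R' ⊗[R] B) i = (1 : R') ⊗ₜ[R] (algebraMap R B i) := by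
        rw [Algebra.TensorProduct.algebraMap_apply, Algebra.algebraMap_eq_smul_one,
          TensorProduct.smul_tmul, ← Algebra.algebraMap_eq_smul_one]
      rw [this]
      show Q ((1 : R') ⊗ₜ[R] (algebraMap R B i)) = 0
      simp only [Q, Algebra.TensorProduct.map_tmul, AlgHom.coe_id, id_eq, Ideal.Quotient.mkₐ_eq_mk]
      have : Ideal.Quotient.mk J (algebraMap R B i) = 0 :=
        Ideal.Quotient.eq_zero_iff_mem.mpr (Ideal.mem_map_of_mem _ hi)
      rw [this, tmul_zero]
    exact hle H
  -- injectivity of `R' ⊗ (R ⧸ ker g) → R' ⊗ (B ⧸ J)`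
  let gq : (R ⧸ LinearMap.ker g) →ₗ[R] B ⧸ J := (LinearMap.ker g).liftQ g le_rfl
  have hgq : Function.Injective gq := by
    rw [← LinearMap.ker_eq_bot]
    exact Submodule.ker_liftQ_eq_bot _ _ _ le_rfl
  have hinj := Module.Flat.lTensor_preserves_injective_linearMap (M := R') gq hgq
  have h0 : ((1 : R') ⊗ₜ[R] (Submodule.Quotient.mk (p := LinearMap.ker g) (1 : R))) = 0 := by
    apply hinj
    rw [map_zero, LinearMap.lTensor_tmul]
    have : gq (Submodule.Quotient.mk (1 : R)) = Ideal.Quotient.mk J b := by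
      show (LinearMap.ker g).liftQ g le_rfl (Submodule.Quotient.mk (1 : R)) = _
      rw [Submodule.liftQ_apply]
      simp [g]
    rw [this]
    simpa [Q] using hQ
  have h1 := congrArg (TensorProduct.tensorQuotEquivQuotSMul R' (LinearMap.ker g)) h0
  rw [map_zero] at h1
  have h1' : (TensorProduct.tensorQuotEquivQuotSMul R' (LinearMap.ker g))
      ((1 : R') ⊗ₜ[R] (Ideal.Quotient.mk (LinearMap.ker g) (1 : R))) = 0 := h1
  rw [TensorProduct.tensorQuotEquivQuotSMul_tmul_mk, one_smul,
    Submodule.Quotient.mk_eq_zero, Ideal.smul_top_eq_map] at h1'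
  exact (Ideal.eq_top_iff_one _).mpr h1'

end Groth.Agent.Lib.Helper6.MultType
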