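import Mathlib
import Groth.Prelude.Def_SGA3b
import Groth.Agent.Lib.Helper6.MultType.Descent

/-!
# Groups of multiplicative type over a field (helper6)
-/

set_option autoImplicit false
universe u
open TensorProduct SGA3b Coalgebra

namespace Groth.Agent.Lib.Helper6.MultType

section Field

variable {K : Type u} [Field K] {B : Type u} [CommRing B] [HopfAlgebra K B]

/-- Over a field, a commutative Hopf algebra spanned by its group-like elements is
diagonalisable. -/
theorem isDiag_of_span_groupLike
    (hspan : Submodule.span K {a : B | IsGroupLikeElem K a} = ⊤) : IsDiag K B := by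
  refine ⟨GroupLike K B, inferInstance, ⟨(BialgEquiv.ofBijective
    (MonoidAlgebra.liftGroupLikeBialgHom (R := K) (A := B)) ⟨?_, ?_⟩).symm⟩⟩
  · -- injective by linear independence of group-like elements
    have hli := linearIndep_groupLikeVal (R := K) (A := B)
    rw [LinearIndependent] at hli
    have e : ∀ x : MonoidAlgebra K (GroupLike K B),
        MonoidAlgebra.liftGroupLikeBialgHom (R := K) (A := B) x =
          Finsupp.linearCombination K (GroupLike.val (R := K) (A := B)) x.coeff := by
      intro x
      induction x using MonoidAlgebra.induction_linear with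
      | zero => simp
      | add x y hx hy => rw [map_add, hx, hy, MonoidAlgebra.coeff_add, map_add]
      | single g r =>
        simp [MonoidAlgebra.liftGroupLikeBialgHom, Algebra.smul_def]
    intro x y hxy
    rw [e, e] at hxy
    exact MonoidAlgebra.coeff_injective (hli hxy)
  · -- surjective since `B` is spanned by group-likes
    intro b
    have hb : b ∈ Submodule.span K {a : B | IsGroupLikeElem K a} := hspan ▸ Submodule.mem_top
    refine Submodule.span_induction ?_ ?_ ?_ ?_ hb
    · intro a ha
      exact ⟨MonoidAlgebra.single ⟨a, ha⟩ 1, by simp [MonoidAlgebra.liftGroupLikeBialgHom]⟩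
    · exact ⟨0, map_zero _⟩
    · rintro x y _ _ ⟨x', rfl⟩ ⟨y', rfl⟩
      exact ⟨x' + y', map_add _ _ _⟩
    · rintro r x _ ⟨x', rfl⟩
      exact ⟨r • x', map_smul _ _ _⟩

/-- A quotient bialgebra of a group algebra over a field is diagonalisable. -/
theorem isDiag_of_surjective {M : Type u} [CommGroup M] (q : MonoidAlgebra K M →ₐc[K] B)
    (hq : Function.Surjective q) : IsDiag K B := by
  apply isDiag_of_span_groupLike
  rw [eq_top_iff]
  intro b _
  obtain ⟨x, rfl⟩ := hq b
  induction x using MonoidAlgebra.induction_linear with
  | zero => simp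
  | add x y hx hy => rw [map_add]; exact Submodule.add_mem _ (hx trivial) (hy trivial)
  | single m r =>
    have : (MonoidAlgebra.single m r : MonoidAlgebra K M) = r • MonoidAlgebra.single m 1 := by
      rw [MonoidAlgebra.smul_single, smul_eq_mul, mul_one]
    rw [this, map_smul]
    refine Submodule.smul_mem _ _ (Submodule.subset_span ?_)
    exact (MonoidAlgebra.isGroupLikeElem_single_one (R := K) (A := K) m).map q

end Field

end Groth.Agent.Lib.Helper6.MultType

namespace Groth.Agent.Lib.Helper6.MultType

section OverField

variable {k : Type u} [Field k]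

/-- Over a field, a group of multiplicative type is split by a field extension. -/
theorem IsMultType.exists_field_chart {A : Type u} [CommRing A] [HopfAlgebra k A]
    (h : IsMultType k A) :
    ∃ (K : Type u) (_ : Field K) (_ : Algebra k K), IsDiag K (K ⊗[k] A) := by
  obtain ⟨R', _, _, _, hne, hd⟩ := IsMultType.exists_chart h ⊥ bot_ne_top
  have hnt : Nontrivial R' := by
    by_contra hcon
    rw [not_nontrivial_iff_subsingleton] at hcon
    exact hne (Subsingleton.elim _ _)
  obtain ⟨𝔪, h𝔪⟩ := Ideal.exists_maximal R'
  letI : Field (R' ⧸ 𝔪) := Ideal.Quotient.field 𝔪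
  refine ⟨R' ⧸ 𝔪, inferInstance, inferInstance, ?_⟩
  exact IsDiag.of_tower R' (R' ⧸ 𝔪) (IsDiag.baseChange hd (R' ⧸ 𝔪))

attribute [local instance] Algebra.TensorProduct.rightAlgebra in
/-- Over a field, a Hopf algebra split by a field extension is of multiplicative type. -/
theorem isMultType_of_field_chart {B : Type u} [CommRing B] [HopfAlgebra k B]
    (K : Type u) [Field K] [Algebra k K] (hd : IsDiag K (K ⊗[k] B)) : IsMultType k B := by
  refine ⟨{1}, by simp, ?_⟩
  intro f hf
  rw [Set.mem_singleton_iff] at hf
  subst hf
  refine ⟨Localization.Away (1 : k) ⊗[k] K, inferInstance, inferInstance, inferInstance, ?_⟩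
  apply IsDiag.to_tower (R := k) (Localization.Away (1 : k)) (Localization.Away (1 : k) ⊗[k] K)
  exact IsDiag.of_tower K (Localization.Away (1 : k) ⊗[k] K)
    (IsDiag.baseChange hd (Localization.Away (1 : k) ⊗[k] K))

/-- Over a field, a closed subgroup scheme of a group of multiplicative type is of
multiplicative type. -/
theorem isMultType_quotient_of_field {A : Type u} [CommRing A] [HopfAlgebra k A]
    (h : IsMultType k A) (J : Ideal A) [J.IsHopfIdeal k] : IsMultType k (A ⧸ J) := by
  obtain ⟨K, _, _, M, _, ⟨e⟩⟩ := IsMultType.exists_field_chart h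
  apply isMultType_of_field_chart K
  let q : MonoidAlgebra K M →ₐc[K] K ⊗[k] (A ⧸ J) :=
    (Bialgebra.TensorProduct.map (BialgHom.id K K) (Bialgebra.Quotient.mkBialgHom (R := k) J)).comp
      (e.symm : MonoidAlgebra K M →ₐc[K] K ⊗[k] A)
  apply isDiag_of_surjective q
  intro y
  have hsurj : Function.Surjective
      (Bialgebra.TensorProduct.map (BialgHom.id K K) (Bialgebra.Quotient.mkBialgHom (R := k) J)) := by
    intro z
    induction z using TensorProduct.induction_on with
    | zero => exact ⟨0, map_zero _⟩
    | tmul r a =>
      obtain ⟨a', rfl⟩ := Ideal.Quotient.mk_surjective a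
      exact ⟨r ⊗ₜ a', rfl⟩
    | add z w hz hw =>
      obtain ⟨z', rfl⟩ := hz
      obtain ⟨w', rfl⟩ := hw
      exact ⟨z' + w', map_add _ _ _⟩
  obtain ⟨x, rfl⟩ := hsurj y
  exact ⟨e x, by simp [q]⟩

end OverField

end Groth.Agent.Lib.Helper6.MultType
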