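import Mathlib
import Groth.Prelude.Def_SGA3b
import Groth.Agent.Lib.Helper6.MultType.Descent

/-!
# Approximately primitive elements of groups of multiplicative type (helper6)
-/

set_option autoImplicit false
universe u
open TensorProduct SGA3b Coalgebra

namespace Groth.Agent.Lib.Helper6.MultType

section Diag

variable (R : Type u) [CommRing R] (M : Type u) [CommGroup M]

/-- The coefficient functional. -/
noncomputable def coeffL (m : M) : MonoidAlgebra R M →ₗ[R] R :=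
  (Finsupp.lapply m) ∘ₗ (MonoidAlgebra.coeffLinearEquiv R).toLinearMap

@[simp] lemma coeffL_apply (m : M) (x : MonoidAlgebra R M) : coeffL R M m x = x.coeff m := rfl

/-- `x ⊗ y ↦ x_m y_m`. -/
noncomputable def coeffL₂ (m : M) : MonoidAlgebra R M ⊗[R] MonoidAlgebra R M →ₗ[R] R :=
  LinearMap.mul' R R ∘ₗ TensorProduct.map (coeffL R M m) (coeffL R M m)

@[simp] lemma coeffL₂_tmul (m : M) (x y : MonoidAlgebra R M) :
    coeffL₂ R M m (x ⊗ₜ y) = x.coeff m * y.coeff m := by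
  simp [coeffL₂]

lemma coeffL₂_comul (m : M) (x : MonoidAlgebra R M) :
    coeffL₂ R M m (comul x) = x.coeff m := by
  classical
  induction x using MonoidAlgebra.induction_linear with
  | zero => simp
  | add x y hx hy => rw [map_add, map_add, hx, hy]; rfl
  | single n r =>
    rw [MonoidAlgebra.comul_single, CommSemiring.comul_apply, TensorProduct.map_tmul]
    simp only [MonoidAlgebra.lsingle_apply, coeffL₂_tmul, MonoidAlgebra.coeff_single,
      Finsupp.single_apply]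
    split_ifs <;> simp

lemma linearMap_mem_of_mem_map {N : Type u} [CommRing N] [Algebra R N] (𝔞 : Ideal R)
    (f : N →ₗ[R] R) {z : N} (hz : z ∈ Ideal.map (algebraMap R N) 𝔞) : f z ∈ 𝔞 := by
  have hz' : z ∈ (𝔞 • ⊤ : Submodule R N) := by
    rw [Ideal.smul_top_eq_map]; exact hz
  refine Submodule.smul_induction_on hz' ?_ ?_
  · intro r hr n _
    rw [map_smul, smul_eq_mul]
    exact 𝔞.mul_mem_right _ hr
  · intro x y hx hy
    rw [map_add]
    exact 𝔞.add_mem hx hy

lemma mem_map_of_coeff_mem (𝔞 : Ideal R) (b : MonoidAlgebra R M) (h : ∀ m, b.coeff m ∈ 𝔞) :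
    b ∈ Ideal.map (algebraMap R (MonoidAlgebra R M)) 𝔞 := by
  rw [← MonoidAlgebra.sum_coeff_single b, Finsupp.sum]
  refine Ideal.sum_mem _ fun m _ => ?_
  rw [MonoidAlgebra.single_eq_algebraMap_mul_of]
  exact Ideal.mul_mem_right _ _ (Ideal.mem_map_of_mem _ (h m))

/-- In a group algebra, an element which is primitive modulo `𝔞` lies in `𝔞 R[M]`. -/
theorem diag_mem_of_approx_prim (𝔞 : Ideal R) (b : MonoidAlgebra R M)
    (hb : comul (R := R) b - b ⊗ₜ[R] 1 - 1 ⊗ₜ[R] b ∈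
      Ideal.map (algebraMap R (MonoidAlgebra R M ⊗[R] MonoidAlgebra R M)) 𝔞) :
    b ∈ Ideal.map (algebraMap R (MonoidAlgebra R M)) 𝔞 := by
  classical
  apply mem_map_of_coeff_mem
  intro m
  have h1 := linearMap_mem_of_mem_map R 𝔞 (coeffL₂ R M m) hb
  rw [map_sub, map_sub, coeffL₂_comul, coeffL₂_tmul, coeffL₂_tmul, MonoidAlgebra.one_def,
    MonoidAlgebra.coeff_single, Finsupp.single_apply] at h1
  by_cases hm : (1 : M) = m
  · rw [if_pos hm, mul_one, one_mul, sub_self, zero_sub] at h1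
    exact (Ideal.neg_mem_iff _).mp h1
  · rw [if_neg hm, mul_zero, zero_mul, sub_zero, sub_zero] at h1
    exact h1

end Diag

end Groth.Agent.Lib.Helper6.MultType

namespace Groth.Agent.Lib.Helper6.MultType

lemma algHom_mem_map {R X Y : Type*} [CommRing R] [CommRing X] [CommRing Y] [Algebra R X]
    [Algebra R Y] (f : X →ₐ[R] Y) (I : Ideal R) {x : X}
    (hx : x ∈ Ideal.map (algebraMap R X) I) : f x ∈ Ideal.map (algebraMap R Y) I := by
  have h1 : f x ∈ Ideal.map (f : X →+* Y) (Ideal.map (algebraMap R X) I) :=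
    Ideal.mem_map_of_mem _ hx
  rwa [Ideal.map_map, AlgHom.comp_algebraMap] at h1

lemma map_map_tower {R R' X : Type*} [CommRing R] [CommRing R'] [CommRing X] [Algebra R R']
    [Algebra R X] [Algebra R' X] [IsScalarTower R R' X] (I : Ideal R) :
    Ideal.map (algebraMap R' X) (Ideal.map (algebraMap R R') I) = Ideal.map (algebraMap R X) I := by
  rw [Ideal.map_map, ← IsScalarTower.algebraMap_eq]

variable {R : Type u} [CommRing R] {A : Type u} [CommRing A] [HopfAlgebra R A]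

/-- In a group of multiplicative type, an element which is primitive modulo `𝔞` lies in `𝔞 A`. -/
theorem IsMultType.mem_of_approx_prim (h : IsMultType R A) (𝔞 : Ideal R) (a : A)
    (ha : comul (R := R) a - a ⊗ₜ[R] 1 - 1 ⊗ₜ[R] a ∈ Ideal.map (algebraMap R (A ⊗[R] A)) 𝔞) :
    a ∈ Ideal.map (algebraMap R A) 𝔞 := by
  apply IsMultType.mem_map_of_forall_chart h 𝔞 a
  intro R' _ _ _ hd
  obtain ⟨M, _, ⟨e⟩⟩ := hd
  set 𝔞' := Ideal.map (algebraMap R R') 𝔞 with h𝔞'
  set x' : R' ⊗[R] A := (1 : R') ⊗ₜ[R] a with hx'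
  -- Step 1
  have h1 : comul (R := R') x' - x' ⊗ₜ[R'] 1 - 1 ⊗ₜ[R'] x' ∈
      Ideal.map (algebraMap R' ((R' ⊗[R] A) ⊗[R'] (R' ⊗[R] A))) 𝔞' := by
    have e1 : comul (R := R') x' - x' ⊗ₜ[R'] 1 - 1 ⊗ₜ[R'] x' =
        T₀ R R' A (comul (R := R) a - a ⊗ₜ[R] 1 - 1 ⊗ₜ[R] a) := by
      rw [map_sub, map_sub, T₀_tmul, T₀_tmul, ← comul_one_tmul]
      rfl
    rw [e1]
    have h2 := Ideal.mem_map_of_mem (T₀ R R' A) ha
    rw [Ideal.map_map] at h2
    have e2 : (T₀ R R' A).comp (algebraMap R (A ⊗[R] A)) =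
        (algebraMap R' ((R' ⊗[R] A) ⊗[R'] (R' ⊗[R] A))).comp (algebraMap R R') := by
      ext r
      exact T₀_algebraMap R R' A r
    rw [e2, ← Ideal.map_map] at h2
    exact h2
  -- Step 2
  set b := e x' with hb
  have h2 : comul (R := R') b - b ⊗ₜ[R'] 1 - 1 ⊗ₜ[R'] b ∈
      Ideal.map (algebraMap R' (MonoidAlgebra R' M ⊗[R'] MonoidAlgebra R' M)) 𝔞' := by
    have e1 : comul (R := R') b - b ⊗ₜ[R'] 1 - 1 ⊗ₜ[R'] b =
        Algebra.TensorProduct.map (e : (R' ⊗[R] A) →ₐ[R'] MonoidAlgebra R' M)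
          (e : (R' ⊗[R] A) →ₐ[R'] MonoidAlgebra R' M)
          (comul (R := R') x' - x' ⊗ₜ[R'] 1 - 1 ⊗ₜ[R'] x') := by
      rw [map_sub, map_sub, Algebra.TensorProduct.map_tmul, Algebra.TensorProduct.map_tmul,
        map_one]
      have := CoalgHomClass.map_comp_comul_apply e x'
      congr 2
      exact this.symm
    rw [e1]
    exact algHom_mem_map _ 𝔞' h1
  -- Step 3
  have h3 := diag_mem_of_approx_prim R' M 𝔞' b h2
  -- Step 4
  have h4 := algHom_mem_map (e.symm : MonoidAlgebra R' M →ₐ[R'] (R' ⊗[R] A)) 𝔞' h3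
  have e4 : (e.symm : MonoidAlgebra R' M →ₐ[R'] (R' ⊗[R] A)) b = x' := e.symm_apply_apply x'
  rw [e4, h𝔞', map_map_tower] at h4
  exact h4

end Groth.Agent.Lib.Helper6.MultType
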