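import Mathlib
import Groth.Prelude.Def_SGA3b
import Groth.Agent.Lib.Helper6.MultType.Prim

/-!
# Monomorphisms from groups of multiplicative type are closed immersions (helper6)
-/

set_option autoImplicit false
universe u
open TensorProduct SGA3b Coalgebra WithConv

namespace Groth.Agent.Lib.Helper6.MultType

section Antipode

variable {R : Type u} [CommRing R] {A : Type u} [CommRing A] [HopfAlgebra R A]
variable {C : Type u} [CommRing C] [HopfAlgebra R C]

/-- Bialgebra maps between Hopf algebras commute with the antipodes. -/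
theorem bialgHom_antipode (φ : C →ₐc[R] A) (c : C) :
    φ (HopfAlgebra.antipode R c) = HopfAlgebra.antipode R (φ c) := by
  let f : WithConv (C →ₗ[R] A) := toConv (φ : C →ₗ[R] A)
  let g : WithConv (C →ₗ[R] A) := toConv ((HopfAlgebra.antipode R (A := A)) ∘ₗ (φ : C →ₗ[R] A))
  let g' : WithConv (C →ₗ[R] A) := toConv ((φ : C →ₗ[R] A) ∘ₗ (HopfAlgebra.antipode R (A := C)))
  have h1 : g * f = 1 := by
    ext x
    rw [(ℛ R x).convMul_apply]
    have := HopfAlgebra.sum_antipode_mul_eq_algebraMap_counit ((ℛ R x).induced φ)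
    simp only [Coalgebra.Repr.induced_index, Coalgebra.Repr.induced_left,
      Coalgebra.Repr.induced_right, Function.comp_apply] at this
    rw [CoalgHomClass.counit_comp_apply] at this
    exact this
  have h2 : f * g' = 1 := by
    ext x
    rw [(ℛ R x).convMul_apply]
    have := congrArg φ (HopfAlgebra.sum_mul_antipode_eq_algebraMap_counit (ℛ R x))
    rw [map_sum] at this
    simp only [map_mul] at this
    rw [AlgHomClass.commutes] at this
    exact this
  have h3 : g = g' := by
    calc g = g * (f * g') := by rw [h2, mul_one]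
      _ = (g * f) * g' := (mul_assoc _ _ _).symm
      _ = g' := by rw [h1, one_mul]
  exact (congrArg (fun t : WithConv (C →ₗ[R] A) => t c) h3).symm

end Antipode

section ModDescent

variable {R : Type u} [CommRing R] {A : Type u} [CommRing A] [HopfAlgebra R A]

/-- Descent of vanishing in an arbitrary module along the charts. -/
theorem IsMultType.eq_zero_of_forall_chart (h : IsMultType R A) {N : Type u} [AddCommGroup N]
    [Module R N] (x : N)
    (H : ∀ (R' : Type u) [CommRing R'] [Algebra R R'], Module.Flat R R' → IsDiag R' (R' ⊗[R] A) →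
      ((1 : R') ⊗ₜ[R] x) = 0) : x = 0 := by
  let g : R →ₗ[R] N := LinearMap.toSpanSingleton R N x
  by_contra hx
  have hker : LinearMap.ker g ≠ ⊤ := by
    intro htop
    apply hx
    have : (1 : R) ∈ LinearMap.ker g := htop ▸ Submodule.mem_top
    rw [LinearMap.mem_ker] at this
    simpa [g] using this
  obtain ⟨R', _, _, hflat, hne, hd⟩ := IsMultType.exists_chart h (LinearMap.ker g) hker
  apply hne
  specialize H R' hflat hd
  let gq : (R ⧸ LinearMap.ker g) →ₗ[R] N := (LinearMap.ker g).liftQ g le_rfl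
  have hgq : Function.Injective gq := by
    rw [← LinearMap.ker_eq_bot]
    exact Submodule.ker_liftQ_eq_bot _ _ _ le_rfl
  have hinj := Module.Flat.lTensor_preserves_injective_linearMap (M := R') gq hgq
  have h0 : ((1 : R') ⊗ₜ[R] (Submodule.Quotient.mk (p := LinearMap.ker g) (1 : R))) = 0 := by
    apply hinj
    rw [map_zero, LinearMap.lTensor_tmul]
    have : gq (Submodule.Quotient.mk (1 : R)) = x := by
      show (LinearMap.ker g).liftQ g le_rfl (Submodule.Quotient.mk (1 : R)) = _
      rw [Submodule.liftQ_apply]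
      simp [g]
    rw [this]
    exact H
  have h1 := congrArg (TensorProduct.tensorQuotEquivQuotSMul R' (LinearMap.ker g)) h0
  rw [map_zero] at h1
  have h1' : (TensorProduct.tensorQuotEquivQuotSMul R' (LinearMap.ker g))
      ((1 : R') ⊗ₜ[R] (Ideal.Quotient.mk (LinearMap.ker g) (1 : R))) = 0 := h1
  rw [TensorProduct.tensorQuotEquivQuotSMul_tmul_mk, one_smul,
    Submodule.Quotient.mk_eq_zero, Ideal.smul_top_eq_map] at h1'
  exact (Ideal.eq_top_iff_one _).mpr h1'

end ModDescent

end Groth.Agent.Lib.Helper6.MultType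

namespace Groth.Agent.Lib.Helper6.MultType

section DiagMono

variable {R : Type u} [CommRing R] {M : Type u} [CommGroup M]
variable {C : Type u} [CommRing C] [HopfAlgebra R C]

/-- `a ⊗ b ↦ b_m • a`. -/
noncomputable def rho (m : M) : MonoidAlgebra R M ⊗[R] MonoidAlgebra R M →ₗ[R] MonoidAlgebra R M :=
  (TensorProduct.rid R (MonoidAlgebra R M)).toLinearMap ∘ₗ
    TensorProduct.map LinearMap.id (coeffL R M m)

@[simp] lemma rho_tmul (m : M) (a b : MonoidAlgebra R M) :
    rho (R := R) m (a ⊗ₜ b) = b.coeff m • a := by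
  simp [rho]

lemma rho_comul (m : M) (x : MonoidAlgebra R M) :
    rho (R := R) m (comul x) = MonoidAlgebra.single m (x.coeff m) := by
  classical
  induction x using MonoidAlgebra.induction_linear with
  | zero => simp
  | add x y hx hy =>
    rw [map_add, map_add, hx, hy, MonoidAlgebra.coeff_add, Finsupp.add_apply,
      MonoidAlgebra.single_add]
  | single n r =>
    rw [MonoidAlgebra.comul_single, CommSemiring.comul_apply, TensorProduct.map_tmul]
    simp only [MonoidAlgebra.lsingle_apply, rho_tmul, MonoidAlgebra.coeff_single,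
      Finsupp.single_apply]
    split_ifs with h
    · subst h; simp
    · simp

variable (φ : C →ₐc[R] MonoidAlgebra R M)

/-- The image of a bialgebra map into a group algebra is graded. -/
lemma single_coeff_mem_range {x : MonoidAlgebra R M} (hx : x ∈ (φ : C →ₐ[R] _).range) (m : M) :
    MonoidAlgebra.single m (x.coeff m) ∈ (φ : C →ₐ[R] MonoidAlgebra R M).range := by
  obtain ⟨c, hc⟩ := hx
  have hc' : φ c = x := hc
  subst hc'
  have h1 : rho (R := R) m (comul (φ c)) =
      MonoidAlgebra.single m ((φ c).coeff m) := rho_comul m _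
  rw [← h1]
  have h2 : comul (R := R) (φ c) =
      ∑ i ∈ (ℛ R c).index, φ ((ℛ R c).left i) ⊗ₜ[R] φ ((ℛ R c).right i) := by
    rw [← CoalgHomClass.map_comp_comul_apply, ← (ℛ R c).eq, map_sum]
    rfl
  rw [h2, map_sum]
  refine Subalgebra.sum_mem _ fun i _ => ?_
  rw [rho_tmul]
  exact Subalgebra.smul_mem _ (AlgHom.mem_range_self (φ : C →ₐ[R] MonoidAlgebra R M) _) _

/-- The ideal of coefficients of the degree `m` part of the image. -/
def coeffIdeal (m : M) : Ideal R where
  carrier := {r | MonoidAlgebra.single m r ∈ (φ : C →ₐ[R] MonoidAlgebra R M).range}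
  add_mem' := by
    intro a b ha hb
    show MonoidAlgebra.single m (a + b) ∈ (φ : C →ₐ[R] MonoidAlgebra R M).range
    rw [MonoidAlgebra.single_add]
    exact Subalgebra.add_mem _ ha hb
  zero_mem' := by
    show MonoidAlgebra.single m (0 : R) ∈ (φ : C →ₐ[R] MonoidAlgebra R M).range
    rw [MonoidAlgebra.single_zero]
    exact Subalgebra.zero_mem _
  smul_mem' := by
    intro a b hb
    show MonoidAlgebra.single m (a • b) ∈ (φ : C →ₐ[R] MonoidAlgebra R M).range
    rw [← MonoidAlgebra.smul_single]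
    exact Subalgebra.smul_mem _ hb _

lemma mem_coeffIdeal {m : M} {r : R} :
    r ∈ coeffIdeal φ m ↔ MonoidAlgebra.single m r ∈ (φ : C →ₐ[R] MonoidAlgebra R M).range :=
  Iff.rfl

lemma coeffIdeal_one : coeffIdeal φ 1 = ⊤ := by
  rw [Ideal.eq_top_iff_one, mem_coeffIdeal, ← MonoidAlgebra.one_def]
  exact Subalgebra.one_mem _

lemma coeffIdeal_mul (m n : M) : coeffIdeal φ m * coeffIdeal φ n ≤ coeffIdeal φ (m * n) := by
  rw [Ideal.mul_le]
  intro r hr s hs
  rw [mem_coeffIdeal] at hr hs ⊢
  have := Subalgebra.mul_mem _ hr hs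
  rwa [MonoidAlgebra.single_mul_single] at this

lemma coeffIdeal_inv (m : M) : coeffIdeal φ m ≤ coeffIdeal φ m⁻¹ := by
  intro r hr
  rw [mem_coeffIdeal] at hr ⊢
  obtain ⟨c, hc⟩ := hr
  refine ⟨HopfAlgebra.antipode R c, ?_⟩
  show φ (HopfAlgebra.antipode R c) = _
  rw [bialgHom_antipode]
  have hc' : φ c = MonoidAlgebra.single m r := hc
  rw [hc', MonoidAlgebra.antipode_single]
  simp

/-- The subgroup of degrees whose coefficient ideal is not contained in `𝔭`. -/
def degSubgroup (𝔭 : Ideal R) [𝔭.IsPrime] : Subgroup M where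
  carrier := {m | ¬ coeffIdeal φ m ≤ 𝔭}
  mul_mem' := by
    intro m n hm hn hmn
    have := (coeffIdeal_mul φ m n).trans hmn
    rcases (Ideal.IsPrime.mul_le ‹_›).mp this with h | h
    · exact hm h
    · exact hn h
  one_mem' := by
    intro h
    rw [coeffIdeal_one, top_le_iff] at h
    exact (Ideal.IsPrime.ne_top ‹_›) h
  inv_mem' := by
    intro m hm h
    exact hm ((coeffIdeal_inv φ m).trans h)

theorem diag_surjective_of_mono
    (hmono : ∀ (T : Type u) [CommRing T] [Algebra R T],
      Function.Injective (fun x : MonoidAlgebra R M →ₐ[R] T => x.comp (φ : C →ₐ[R] _))) :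
    Function.Surjective φ := by
  classical
  have key : ∀ m : M, coeffIdeal φ m = ⊤ := by
    intro m₀
    by_contra hne
    obtain ⟨𝔭, h𝔭, hle⟩ := Ideal.exists_le_maximal _ hne
    haveI := h𝔭.isPrime
    letI : Field (R ⧸ 𝔭) := Ideal.Quotient.field 𝔭
    let S := degSubgroup φ 𝔭
    let T := MonoidAlgebra (R ⧸ 𝔭) (M ⧸ S)
    let χ₁ : M →* T := (MonoidAlgebra.of (R ⧸ 𝔭) (M ⧸ S)).comp (QuotientGroup.mk' S)
    let x₁ : MonoidAlgebra R M →ₐ[R] T := MonoidAlgebra.lift R T M χ₁
    let x₂ : MonoidAlgebra R M →ₐ[R] T := MonoidAlgebra.lift R T M 1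
    have hx : x₁.comp (φ : C →ₐ[R] _) = x₂.comp (φ : C →ₐ[R] _) := by
      apply AlgHom.ext
      intro c
      show x₁ (φ c) = x₂ (φ c)
      have hc : φ c ∈ (φ : C →ₐ[R] MonoidAlgebra R M).range := ⟨c, rfl⟩
      rw [← MonoidAlgebra.sum_coeff_single (φ c), Finsupp.sum, map_sum, map_sum]
      refine Finset.sum_congr rfl fun m _ => ?_
      have hm := single_coeff_mem_range φ hc m
      rw [MonoidAlgebra.lift_single, MonoidAlgebra.lift_single]
      by_cases hmS : m ∈ S
      · have : χ₁ m = 1 := by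
          show MonoidAlgebra.of (R ⧸ 𝔭) (M ⧸ S) (QuotientGroup.mk' S m) = 1
          have : (QuotientGroup.mk' S m) = 1 := (QuotientGroup.eq_one_iff m).mpr hmS
          rw [this, map_one]
        rw [this]; rfl
      · have hle' : coeffIdeal φ m ≤ 𝔭 := by
          by_contra h
          exact hmS h
        have hr : (φ c).coeff m ∈ 𝔭 := hle' hm
        have h0 : algebraMap R T ((φ c).coeff m) = 0 := by
          rw [IsScalarTower.algebraMap_apply R (R ⧸ 𝔭) T, Ideal.Quotient.algebraMap_eq,
            Ideal.Quotient.eq_zero_iff_mem.mpr hr, map_zero]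
        rw [Algebra.smul_def, Algebra.smul_def, h0, zero_mul, zero_mul]
    have hx' := hmono T hx
    have h1 : x₁ (MonoidAlgebra.of R M m₀) = x₂ (MonoidAlgebra.of R M m₀) := by rw [hx']
    rw [MonoidAlgebra.lift_of, MonoidAlgebra.lift_of] at h1
    have h2 : MonoidAlgebra.of (R ⧸ 𝔭) (M ⧸ S) (QuotientGroup.mk' S m₀) =
        MonoidAlgebra.of (R ⧸ 𝔭) (M ⧸ S) 1 := by
      rw [map_one]; exact h1
    have h3 := MonoidAlgebra.of_injective h2
    have h4 : m₀ ∈ S := (QuotientGroup.eq_one_iff m₀).mp h3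
    exact h4 hle
  intro x
  have hx : x ∈ (φ : C →ₐ[R] MonoidAlgebra R M).range := by
    rw [← MonoidAlgebra.sum_coeff_single x, Finsupp.sum]
    refine Subalgebra.sum_mem _ fun m _ => ?_
    have : x.coeff m ∈ coeffIdeal φ m := by rw [key m]; trivial
    exact this
  obtain ⟨c, hc⟩ := hx
  exact ⟨c, hc⟩

end DiagMono

end Groth.Agent.Lib.Helper6.MultType

namespace Groth.Agent.Lib.Helper6.MultType

variable {R : Type u} [CommRing R] {A : Type u} [CommRing A] [HopfAlgebra R A]
variable {C : Type u} [CommRing C] [HopfAlgebra R C]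

/-- A monomorphism from a group of multiplicative type to an affine group is a closed
immersion. -/
theorem surjective_of_mono (h : IsMultType R A) (φ : C →ₐc[R] A)
    (hmono : ∀ (T : Type u) [CommRing T] [Algebra R T],
      Function.Injective (fun x : A →ₐ[R] T => x.comp (φ : C →ₐ[R] A))) :
    Function.Surjective φ := by
  intro a
  set P : Submodule R A := LinearMap.range (φ : C →ₗ[R] A) with hP
  suffices hx : (P.mkQ a) = 0 by
    rw [Submodule.mkQ_apply, Submodule.Quotient.mk_eq_zero] at hx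
    obtain ⟨c, hc⟩ := hx
    exact ⟨c, hc⟩
  apply IsMultType.eq_zero_of_forall_chart h
  intro R' _ _ _ hd
  obtain ⟨M, _, ⟨e⟩⟩ := hd
  let φ₀ : R' ⊗[R] C →ₐc[R'] R' ⊗[R] A := Bialgebra.TensorProduct.map (BialgHom.id R' R') φ
  let φ' : R' ⊗[R] C →ₐc[R'] MonoidAlgebra R' M :=
    (e : R' ⊗[R] A →ₐc[R'] MonoidAlgebra R' M).comp φ₀
  have hmono' : ∀ (T : Type u) [CommRing T] [Algebra R' T],
      Function.Injective (fun x : MonoidAlgebra R' M →ₐ[R'] T =>
        x.comp (φ' : R' ⊗[R] C →ₐ[R'] MonoidAlgebra R' M)) := by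
    intro T _ _ x₁ x₂ hx
    letI : Algebra R T := ((algebraMap R' T).comp (algebraMap R R')).toAlgebra
    haveI : IsScalarTower R R' T := IsScalarTower.of_algebraMap_eq' rfl
    let y : (MonoidAlgebra R' M →ₐ[R'] T) → (A →ₐ[R] T) := fun x =>
      ((x.comp (e : R' ⊗[R] A →ₐ[R'] MonoidAlgebra R' M)).restrictScalars R).comp
        (Algebra.TensorProduct.includeRight (R := R) (A := R') (B := A))
    have hy : (y x₁).comp (φ : C →ₐ[R] A) = (y x₂).comp (φ : C →ₐ[R] A) := by
      apply AlgHom.ext
      intro c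
      have := congrArg (fun f : R' ⊗[R] C →ₐ[R'] T => f ((1 : R') ⊗ₜ[R] c)) hx
      exact this
    have hy' : y x₁ = y x₂ := hmono T hy
    have key : ∀ w : R' ⊗[R] A, x₁ (e w) = x₂ (e w) := by
      intro w
      induction w using TensorProduct.induction_on with
      | zero => simp
      | tmul r b =>
        have e1 : (r ⊗ₜ[R] b : R' ⊗[R] A) = r • ((1 : R') ⊗ₜ[R] b) := by
          rw [TensorProduct.smul_tmul', smul_eq_mul, mul_one]
        rw [e1, map_smul, map_smul, map_smul]
        congr 1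
        exact congrArg (fun f : A →ₐ[R] T => f b) hy'
      | add w₁ w₂ h₁ h₂ => rw [map_add, map_add, map_add, h₁, h₂]
    apply AlgHom.ext
    intro z
    have := key (e.symm z)
    rwa [e.apply_symm_apply] at this
  have hsurj := diag_surjective_of_mono φ' hmono'
  obtain ⟨y, hy⟩ := hsurj (e ((1 : R') ⊗ₜ[R] a))
  have hy' : φ₀ y = (1 : R') ⊗ₜ[R] a := e.injective hy
  have e2 : ((1 : R') ⊗ₜ[R] (P.mkQ a)) = (LinearMap.lTensor R' P.mkQ) (φ₀ y) := by
    rw [hy', LinearMap.lTensor_tmul]
  rw [e2]
  have e3 : ∀ y : R' ⊗[R] C, (LinearMap.lTensor R' P.mkQ) (φ₀ y) = 0 := by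
    intro y
    induction y using TensorProduct.induction_on with
    | zero => simp
    | tmul r c =>
      show (LinearMap.lTensor R' P.mkQ) (r ⊗ₜ[R] φ c) = 0
      rw [LinearMap.lTensor_tmul]
      have : P.mkQ (φ c) = 0 := by
        rw [Submodule.mkQ_apply, Submodule.Quotient.mk_eq_zero]
        exact ⟨c, rfl⟩
      rw [this, tmul_zero]
    | add y₁ y₂ h₁ h₂ => rw [map_add, map_add, h₁, h₂, add_zero]
  exact e3 y

end Groth.Agent.Lib.Helper6.MultType
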