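import Mathlib
import Groth.Prelude.Def_SGA3b
import Groth.Agent.Lib.Helper6.MultType.Basic

/-!
# The `n`-th power endomorphism of a commutative bialgebra (helper6)
-/

set_option autoImplicit false
universe u
open TensorProduct SGA3b Coalgebra WithConv

namespace Groth.Agent.Lib.Helper6.MultType

section General

variable (R : Type u) [CommRing R] (A : Type u) [CommRing A] [HopfAlgebra R A]

/-- `powConv` in terms of the convolution ring of linear maps. -/
lemma powConv_eq (n : ℕ) (a : A) :
    powConv R A n a = ((toConv (LinearMap.id : A →ₗ[R] A)) ^ n : WithConv (A →ₗ[R] A)) a := by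
  have h := AlgHom.toLinearMap_convPow (toConv (AlgHom.id R A)) n
  have h2 := congrArg (fun t : WithConv (A →ₗ[R] A) => t a) h
  exact h2

lemma powConv_zero (a : A) : powConv R A 0 a = algebraMap R A (counit (R := R) a) := by
  rw [powConv_eq, pow_zero]; rfl

lemma powConv_succ {ι : Type*} (n : ℕ) {a : A} (𝓡 : Coalgebra.Repr R a ι) :
    powConv R A (n + 1) a = ∑ i ∈ 𝓡.index, powConv R A n (𝓡.left i) * 𝓡.right i := by
  rw [powConv_eq, pow_succ, 𝓡.convMul_apply]
  refine Finset.sum_congr rfl fun i _ => ?_
  rw [powConv_eq]
  rfl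

variable {R A}

/-- Bialgebra maps commute with the power endomorphisms. -/
lemma bialgHom_powConv {B : Type u} [CommRing B] [HopfAlgebra R B] (f : A →ₐc[R] B) (n : ℕ) (a : A) :
    f (powConv R A n a) = powConv R B n (f a) := by
  induction n generalizing a with
  | zero =>
    rw [powConv_zero, powConv_zero, AlgHomClass.commutes, CoalgHomClass.counit_comp_apply]
  | succ n ih =>
    rw [powConv_succ R A n (ℛ R a), powConv_succ R B n ((ℛ R a).induced f), map_sum]
    refine Finset.sum_congr rfl fun i _ => ?_
    rw [map_mul, ih]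
    rfl

end General

section BaseChange

variable (R : Type u) [CommRing R] (R' : Type u) [CommRing R'] [Algebra R R']
variable (A : Type u) [CommRing A] [HopfAlgebra R A]

/-- The base change of a Sweedler representation. -/
noncomputable def reprOneTmul {ι : Type*} {a : A} (𝓡 : Coalgebra.Repr R a ι) :
    Coalgebra.Repr R' ((1 : R') ⊗ₜ[R] a) ι where
  index := 𝓡.index
  left i := (1 : R') ⊗ₜ[R] 𝓡.left i
  right i := (1 : R') ⊗ₜ[R] 𝓡.right i
  eq := by
    rw [comul_one_tmul, ← 𝓡.eq, map_sum]
    refine Finset.sum_congr rfl fun i _ => ?_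
    rw [T₀_tmul]

lemma powConv_one_tmul (n : ℕ) (a : A) :
    powConv R' (R' ⊗[R] A) n ((1 : R') ⊗ₜ[R] a) = (1 : R') ⊗ₜ[R] powConv R A n a := by
  induction n generalizing a with
  | zero =>
    rw [powConv_zero, powConv_zero, counit_one_tmul, Algebra.TensorProduct.algebraMap_apply,
      Algebra.algebraMap_self_apply, Algebra.algebraMap_eq_smul_one (A := A),
      ← TensorProduct.smul_tmul, Algebra.algebraMap_eq_smul_one]
  | succ n ih =>
    rw [powConv_succ R' (R' ⊗[R] A) n (reprOneTmul R R' A (ℛ R a)), powConv_succ R A n (ℛ R a),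
      TensorProduct.tmul_sum]
    refine Finset.sum_congr rfl fun i _ => ?_
    show powConv R' (R' ⊗[R] A) n ((1 : R') ⊗ₜ[R] (ℛ R a).left i) *
      ((1 : R') ⊗ₜ[R] (ℛ R a).right i) = _
    rw [ih, Algebra.TensorProduct.tmul_mul_tmul, mul_one]

end BaseChange

section Diag

variable (R : Type u) [CommRing R] (M : Type u) [CommGroup M]

/-- The Sweedler representation of a monomial. -/
noncomputable def reprSingle (m : M) (r : R) :
    Coalgebra.Repr R (MonoidAlgebra.single m r : MonoidAlgebra R M) Unit where
  index := {()}
  left _ := MonoidAlgebra.single m r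
  right _ := MonoidAlgebra.single m 1
  eq := by
    rw [Finset.sum_singleton, MonoidAlgebra.comul_single, CommSemiring.comul_apply,
      TensorProduct.map_tmul]
    simp only [MonoidAlgebra.lsingle_apply]
    have e : (MonoidAlgebra.single m r : MonoidAlgebra R M) = r • MonoidAlgebra.single m 1 := by
      rw [MonoidAlgebra.smul_single, smul_eq_mul, mul_one]
    rw [e, TensorProduct.smul_tmul]

lemma powConv_single (n : ℕ) (m : M) (r : R) :
    powConv R (MonoidAlgebra R M) n (MonoidAlgebra.single m r) = MonoidAlgebra.single (m ^ n) r := by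
  induction n with
  | zero =>
    rw [powConv_zero, pow_zero, MonoidAlgebra.counit_single, CommSemiring.counit_apply]
    rfl
  | succ n ih =>
    rw [powConv_succ R _ n (reprSingle R M m r)]
    show ∑ i ∈ ({()} : Finset Unit), powConv R (MonoidAlgebra R M) n (MonoidAlgebra.single m r) *
      MonoidAlgebra.single m 1 = _
    rw [Finset.sum_singleton]
    show powConv R (MonoidAlgebra R M) n (MonoidAlgebra.single m r) * MonoidAlgebra.single m 1 = _
    rw [ih, MonoidAlgebra.single_mul_single, mul_one, pow_succ]

end Diag

section Torsion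

variable (R : Type u) [CommRing R] (A : Type u) [CommRing A] [HopfAlgebra R A]

/-- The torsion ideal vanishes iff the power map is trivial. -/
lemma torsionIdeal_eq_bot_iff (n : ℕ) :
    torsionIdeal R A n = ⊥ ↔ ∀ a : A, powConv R A n a = algebraMap R A (counit (R := R) a) := by
  constructor
  · intro h a
    have h1 : a - algebraMap R A (counit (R := R) a) ∈
        RingHom.ker (Bialgebra.counitAlgHom R A) := by
      rw [RingHom.mem_ker, map_sub]
      simp
    have h2 : powConv R A n (a - algebraMap R A (counit (R := R) a)) ∈ torsionIdeal R A n :=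
      Ideal.mem_map_of_mem _ h1
    rw [h, Ideal.mem_bot, map_sub, AlgHom.commutes, sub_eq_zero] at h2
    exact h2
  · intro h
    rw [eq_bot_iff, torsionIdeal, Ideal.map_le_iff_le_comap]
    intro x hx
    rw [RingHom.mem_ker] at hx
    rw [Ideal.mem_comap, Ideal.mem_bot]
    have := h x
    have hx' : counit (R := R) x = 0 := hx
    rw [hx', map_zero] at this
    exact this

end Torsion

end Groth.Agent.Lib.Helper6.MultType
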