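import Mathlib
import Groth.Prelude.Def_SGA3b
import Groth.Agent.Lib.Helper6.MultType.PowConv
import Groth.Agent.Lib.Helper6.MultType.Mono

/-!
# Finiteness of groups of multiplicative type (helper6)
-/

set_option autoImplicit false
universe u
open TensorProduct SGA3b Coalgebra WithConv

namespace Groth.Agent.Lib.Helper6.MultType

variable {R : Type u} [CommRing R] {A : Type u} [CommRing A] [HopfAlgebra R A]

/-- Descent of module-finiteness along the charts. -/
theorem IsMultType.finite_of_forall_chart (h : IsMultType R A) {B : Type u} [AddCommGroup B]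
    [Module R B]
    (H : ∀ (R' : Type u) [CommRing R'] [Algebra R R'], Module.Flat R R' → IsDiag R' (R' ⊗[R] A) →
      Module.Finite R' (R' ⊗[R] B)) : Module.Finite R B := by
  obtain ⟨s, hs, Hs⟩ := h
  refine Module.Finite.of_localizationSpan' s hs
    (Rₚ := fun g => Localization.Away g.val)
    (Mₚ := fun g => Localization.Away g.val ⊗[R] B)
    (fun g => TensorProduct.mk R (Localization.Away g.val) B 1) ?_
  intro g
  obtain ⟨R', _, _, hff, hd⟩ := Hs g.val g.property
  letI : Algebra R R' :=
    ((algebraMap (Localization.Away g.val) R').comp (algebraMap R (Localization.Away g.val))).toAlgebra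
  haveI : IsScalarTower R (Localization.Away g.val) R' := IsScalarTower.of_algebraMap_eq' rfl
  haveI : Module.Flat R (Localization.Away g.val) :=
    IsLocalization.flat _ (Submonoid.powers g.val)
  haveI : Module.Flat R R' := Module.Flat.trans R (Localization.Away g.val) R'
  have h1 : Module.Finite R' (R' ⊗[R] B) :=
    H R' inferInstance (IsDiag.of_tower (Localization.Away g.val) R' hd)
  haveI : Module.Finite R' (R' ⊗[Localization.Away g.val] (Localization.Away g.val ⊗[R] B)) :=
    Module.Finite.equiv
      (AlgebraTensorModule.cancelBaseChange R (Localization.Away g.val) R' R' B).symm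
  exact Module.Finite.of_finite_tensorProduct_of_faithfullyFlat R'

end Groth.Agent.Lib.Helper6.MultType

namespace Groth.Agent.Lib.Helper6.MultType

variable {R : Type u} [CommRing R] {A : Type u} [CommRing A] [HopfAlgebra R A]

/-- If the `n`-th power map of `A` is trivial then so is that of any base change. -/
lemma powConv_baseChange_trivial (R' : Type u) [CommRing R'] [Algebra R R'] (n : ℕ)
    (hp : ∀ a : A, powConv R A n a = algebraMap R A (counit (R := R) a)) (y : R' ⊗[R] A) :
    powConv R' (R' ⊗[R] A) n y = algebraMap R' (R' ⊗[R] A) (counit (R := R') y) := by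
  induction y using TensorProduct.induction_on with
  | zero => simp
  | tmul r a =>
    have e1 : (r ⊗ₜ[R] a : R' ⊗[R] A) = r • ((1 : R') ⊗ₜ[R] a) := by
      rw [TensorProduct.smul_tmul', smul_eq_mul, mul_one]
    rw [e1, map_smul, map_smul, powConv_one_tmul, hp, counit_one_tmul, smul_eq_mul, map_mul,
      ← Algebra.smul_def]
    congr 1
    rw [Algebra.TensorProduct.algebraMap_apply, Algebra.algebraMap_self_apply,
      Algebra.algebraMap_eq_smul_one (A := A), Algebra.algebraMap_eq_smul_one (A := R'),
      TensorProduct.smul_tmul]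
  | add y z hy hz => rw [map_add, map_add, map_add, hy, hz]

/-- In a diagonalisable chart, triviality of the `n`-th power map means `M` has exponent `n`. -/
lemma pow_eq_one_of_powConv_trivial {R' : Type u} [CommRing R'] [Nontrivial R'] {B : Type u}
    [CommRing B] [HopfAlgebra R' B] {M : Type u} [CommGroup M] (e : B ≃ₐc[R'] MonoidAlgebra R' M)
    (n : ℕ) (hp : ∀ y : B, powConv R' B n y = algebraMap R' B (counit (R := R') y)) (m : M) :
    m ^ n = 1 := by
  have h1 := bialgHom_powConv (e : B →ₐc[R'] MonoidAlgebra R' M) n (e.symm (MonoidAlgebra.single m 1))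
  have h2 : (e : B →ₐc[R'] MonoidAlgebra R' M) (e.symm (MonoidAlgebra.single m 1)) =
      MonoidAlgebra.single m 1 := e.apply_symm_apply _
  rw [h2, powConv_single, hp] at h1
  have h3 : (e : B →ₐc[R'] MonoidAlgebra R' M) (algebraMap R' B
      (counit (R := R') (e.symm (MonoidAlgebra.single m (1 : R'))))) =
      algebraMap R' (MonoidAlgebra R' M) (counit (R := R') (e.symm (MonoidAlgebra.single m (1 : R')))) :=
    AlgHomClass.commutes (e : B →ₐc[R'] MonoidAlgebra R' M) _
  rw [h3] at h1
  have h4 : counit (R := R') (e.symm (MonoidAlgebra.single m (1 : R'))) = 1 := by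
    rw [CoalgHomClass.counit_comp_apply]
    simp
  rw [h4, map_one, MonoidAlgebra.one_def] at h1
  exact (MonoidAlgebra.of_injective (R := R') h1).symm

theorem finite_of_torsionIdeal_eq_bot (hft : Algebra.FiniteType R A) (h : IsMultType R A) (n : ℕ)
    (hn : 0 < n) (htor : torsionIdeal R A n = ⊥) : Module.Finite R A := by
  have hp := (torsionIdeal_eq_bot_iff R A n).mp htor
  apply IsMultType.finite_of_forall_chart h
  intro R' _ _ _ hd
  obtain ⟨M, _, ⟨e⟩⟩ := hd
  rcases subsingleton_or_nontrivial R' with hsub | hnt
  · haveI : Subsingleton (R' ⊗[R] A) := Module.subsingleton R' _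
    infer_instance
  · have hp' := powConv_baseChange_trivial (A := A) R' n hp
    have hexp : ∀ m : M, m ^ n = 1 := pow_eq_one_of_powConv_trivial e n hp'
    haveI : Algebra.FiniteType R' (R' ⊗[R] A) := inferInstance
    have hft' : Algebra.FiniteType R' (MonoidAlgebra R' M) :=
      Algebra.FiniteType.equiv inferInstance (e : (R' ⊗[R] A) ≃ₐ[R'] MonoidAlgebra R' M)
    haveI : Group.FG M := MonoidAlgebra.finiteType_iff_group_fg.mp hft'
    haveI : Finite M := CommGroup.finite_of_fg_isMulTorsion M
      (fun m => isOfFinOrder_iff_pow_eq_one.mpr ⟨n, hn, hexp m⟩)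
    haveI : Module.Finite R' (MonoidAlgebra R' M) :=
      Module.Finite.equiv (MonoidAlgebra.coeffLinearEquiv R').symm
    exact Module.Finite.equiv (e.symm : MonoidAlgebra R' M ≃ₐ[R'] (R' ⊗[R] A)).toLinearEquiv

end Groth.Agent.Lib.Helper6.MultType

namespace Groth.Agent.Lib.Helper6.MultType

open Cardinal in
/-- A group algebra spanned by `k` elements over a nontrivial ring has a group of exponent
dividing `k!`. -/
lemma pow_factorial_eq_one_of_span {R' : Type u} [CommRing R'] [Nontrivial R'] {M : Type u}
    [CommGroup M] (k : ℕ) (v : Fin k → MonoidAlgebra R' M)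
    (hv : Submodule.span R' (Set.range v) = ⊤) (m : M) : m ^ k.factorial = 1 := by
  classical
  let b : Module.Basis M R' (MonoidAlgebra R' M) :=
    Finsupp.basisSingleOne.map (MonoidAlgebra.coeffLinearEquiv R').symm
  have h1 : #M ≤ Fintype.card (Set.range v) := basis_le_span' b hv
  have h2 : Fintype.card (Set.range v) ≤ k := by
    have := Fintype.card_range_le v
    simpa using this
  have h3 : #M ≤ (k : Cardinal) := h1.trans (by exact_mod_cast h2)
  haveI : Finite M := Cardinal.lt_aleph0_iff_finite.mp (lt_of_le_of_lt h3 (Cardinal.nat_lt_aleph0 k))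
  have h4 : Nat.card M ≤ k := by
    have : (Nat.card M : Cardinal) ≤ (k : Cardinal) := by
      rw [Nat.cast_card]; exact h3
    exact_mod_cast this
  have h5 : orderOf m ∣ k.factorial :=
    Nat.dvd_factorial (orderOf_pos m) ((Nat.le_of_dvd Nat.card_pos (orderOf_dvd_natCard m)).trans h4)
  exact orderOf_dvd_iff_pow_eq_one.mp h5

variable {R : Type u} [CommRing R] {A : Type u} [CommRing A] [HopfAlgebra R A]

theorem exists_torsionIdeal_eq_bot_of_finite (h : IsMultType R A) [Module.Finite R A] :
    ∃ n : ℕ, 0 < n ∧ torsionIdeal R A n = ⊥ := by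
  obtain ⟨k, s, hs⟩ := Module.Finite.exists_fin (R := R) (M := A)
  refine ⟨k.factorial, Nat.factorial_pos k, ?_⟩
  rw [torsionIdeal_eq_bot_iff]
  intro a
  rw [← sub_eq_zero]
  apply IsMultType.eq_zero_of_forall_chart h
  intro R' _ _ _ hd
  obtain ⟨M, _, ⟨e⟩⟩ := hd
  rcases subsingleton_or_nontrivial R' with hsub | hnt
  · haveI : Subsingleton (R' ⊗[R] A) := Module.subsingleton R' _
    exact Subsingleton.elim _ _
  · -- spanning family in the chart
    let v : Fin k → MonoidAlgebra R' M := fun i => e ((1 : R') ⊗ₜ[R] s i)
    have hv : Submodule.span R' (Set.range v) = ⊤ := by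
      have h1 : Submodule.span R' ((TensorProduct.mk R R' A 1) '' Set.range s) = ⊤ := by
        rw [← Submodule.baseChange_span, hs, Submodule.baseChange_top]
      have h2 : Set.range v = (e : (R' ⊗[R] A) →ₗ[R'] MonoidAlgebra R' M) ''
          ((TensorProduct.mk R R' A 1) '' Set.range s) := by
        ext z
        simp only [Set.mem_range, Set.mem_image, exists_exists_eq_and, v]
        rfl
      rw [h2, Submodule.span_image, h1, Submodule.map_top, LinearMap.range_eq_top]
      exact e.surjective
    have hexp : ∀ m : M, m ^ k.factorial = 1 := pow_factorial_eq_one_of_span k v hv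
    -- power map trivial on the group algebra
    have hdiag : ∀ z : MonoidAlgebra R' M, powConv R' (MonoidAlgebra R' M) k.factorial z =
        algebraMap R' (MonoidAlgebra R' M) (counit (R := R') z) := by
      intro z
      induction z using MonoidAlgebra.induction_linear with
      | zero => simp
      | add x y hx hy => rw [map_add, map_add, map_add, hx, hy]
      | single m r =>
        rw [powConv_single, hexp m, MonoidAlgebra.counit_single, CommSemiring.counit_apply]
        rfl
    -- transport to `R' ⊗ A`
    have h1 := bialgHom_powConv (e : (R' ⊗[R] A) →ₐc[R'] MonoidAlgebra R' M) k.factorial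
      ((1 : R') ⊗ₜ[R] a)
    rw [hdiag, powConv_one_tmul, CoalgHomClass.counit_comp_apply, counit_one_tmul] at h1
    have h2 : (e : (R' ⊗[R] A) →ₐc[R'] MonoidAlgebra R' M)
        ((1 : R') ⊗ₜ[R] algebraMap R A (counit (R := R) a)) =
        algebraMap R' (MonoidAlgebra R' M) (algebraMap R R' (counit (R := R) a)) := by
      have : ((1 : R') ⊗ₜ[R] algebraMap R A (counit (R := R) a)) =
          algebraMap R' (R' ⊗[R] A) (algebraMap R R' (counit (R := R) a)) := by
        rw [Algebra.TensorProduct.algebraMap_apply, Algebra.algebraMap_self_apply,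
          Algebra.algebraMap_eq_smul_one (A := A), Algebra.algebraMap_eq_smul_one (A := R'),
          TensorProduct.smul_tmul]
      rw [this]
      exact AlgHomClass.commutes (e : (R' ⊗[R] A) →ₐc[R'] MonoidAlgebra R' M) _
    rw [TensorProduct.tmul_sub, sub_eq_zero]
    apply e.injective
    exact h1.trans h2.symm

end Groth.Agent.Lib.Helper6.MultType
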