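import Mathlib
import Groth.Prelude.Def_SGA3b
import Groth.Agent.Lib.Helper6.MultType.Prim

/-!
# Rigidity of homomorphisms from a group of multiplicative type to a commutative group (helper6)
-/

set_option autoImplicit false
universe u
open TensorProduct SGA3b Coalgebra WithConv

namespace Groth.Agent.Lib.Helper6.MultType

section Diag

variable {R : Type u} [CommRing R] {M : Type u} [CommGroup M]
variable {C : Type u} [CommRing C] [Bialgebra R C] [IsCocomm R C]

/-- The `m`-th component of a linear map into the group algebra, in the convolution ring. -/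
noncomputable def comp (φ : C →ₐc[R] MonoidAlgebra R M) (m : M) : WithConv (C →ₗ[R] R) :=
  toConv (coeffL R M m ∘ₗ (φ : C →ₗ[R] MonoidAlgebra R M))

lemma comp_apply (φ : C →ₐc[R] MonoidAlgebra R M) (m : M) (c : C) :
    comp φ m c = (φ c).coeff m := rfl

lemma comp_idem (φ : C →ₐc[R] MonoidAlgebra R M) (m : M) : comp φ m * comp φ m = comp φ m := by
  ext c
  rw [(ℛ R c).convMul_apply]
  simp only [comp_apply]
  have h1 : coeffL₂ R M m (comul (R := R) (φ c)) = (φ c).coeff m := coeffL₂_comul R M m (φ c)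
  rw [← CoalgHomClass.map_comp_comul_apply, ← (ℛ R c).eq, map_sum, map_sum] at h1
  rw [← h1]
  refine Finset.sum_congr rfl fun i _ => ?_
  rw [TensorProduct.map_tmul, coeffL₂_tmul]
  rfl

lemma pow_maps_into (I : Ideal R) (d : WithConv (C →ₗ[R] R)) (hd : ∀ c, d c ∈ I) :
    ∀ k : ℕ, ∀ c, (d ^ (k + 1)) c ∈ I ^ (k + 1) := by
  intro k
  induction k with
  | zero => intro c; simpa using hd c
  | succ k ih =>
    intro c
    have e1 : (d ^ (k + 1 + 1)) c = ∑ i ∈ (ℛ R c).index,
        (d ^ (k + 1)) ((ℛ R c).left i) * d ((ℛ R c).right i) := by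
      rw [pow_succ d (k + 1)]
      exact (ℛ R c).convMul_apply _ _
    rw [e1, pow_succ I (k + 1)]
    exact Ideal.sum_mem _ fun i _ => Ideal.mul_mem_mul (ih _) (hd _)

theorem diag_bialgHom_ext_of_nilpotent (I : Ideal R) (hI : IsNilpotent I)
    (φ ψ : C →ₐc[R] MonoidAlgebra R M)
    (H : ∀ c, φ c - ψ c ∈ Ideal.map (algebraMap R (MonoidAlgebra R M)) I) : φ = ψ := by
  obtain ⟨n, hn⟩ := hI
  have key : ∀ m, comp φ m = comp ψ m := by
    intro m
    set e := comp φ m with he
    set e' := comp ψ m with he'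
    set d := e - e' with hd
    have hee : e * e = e := comp_idem φ m
    have hee' : e' * e' = e' := comp_idem ψ m
    have hd3 : d * d * d = d := by
      rw [hd]
      linear_combination (e - 3 * e' + 1) * hee + (3 * e - e' - 1) * hee'
    have hdI : ∀ c, d c ∈ I := by
      intro c
      have := linearMap_mem_of_mem_map R I (coeffL R M m) (H c)
      rw [map_sub] at this
      exact this
    have hodd : ∀ k : ℕ, d ^ (2 * k + 1) = d := by
      intro k
      induction k with
      | zero => simp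
      | succ k ih =>
        have : d ^ (2 * (k + 1) + 1) = d ^ (2 * k) * (d * d * d) := by ring
        rw [this, hd3, ← pow_succ, ih]
    have hd0 : d = 0 := by
      ext c
      have h1 := pow_maps_into I d hdI (2 * n) c
      rw [hodd n] at h1
      have h2 : I ^ (2 * n + 1) = ⊥ := by
        rw [show 2 * n + 1 = n + (n + 1) by ring, pow_add, hn, Ideal.zero_eq_bot, Ideal.bot_mul]
      rw [h2, Ideal.mem_bot] at h1
      exact h1
    exact sub_eq_zero.mp hd0
  ext c m
  have := congrArg (fun f : WithConv (C →ₗ[R] R) => f c) (key m)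
  exact this

end Diag

end Groth.Agent.Lib.Helper6.MultType

namespace Groth.Agent.Lib.Helper6.MultType

variable {R : Type u} [CommRing R] {A : Type u} [CommRing A] [HopfAlgebra R A]
variable {C : Type u} [CommRing C] [Bialgebra R C] [IsCocomm R C]

/-- Rigidity: two homomorphisms from a group of multiplicative type to a commutative affine
group which agree modulo a nilpotent ideal are equal. -/
theorem bialgHom_ext_of_nilpotent (h : IsMultType R A) (I : Ideal R) (hI : IsNilpotent I)
    (φ ψ : C →ₐc[R] A) (H : ∀ c, φ c - ψ c ∈ Ideal.map (algebraMap R A) I) : φ = ψ := by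
  ext c
  rw [← sub_eq_zero, ← Ideal.mem_bot, ← Ideal.map_bot (f := algebraMap R A)]
  apply IsMultType.mem_map_of_forall_chart h ⊥ (φ c - ψ c)
  intro R' _ _ _ hd
  obtain ⟨M, _, ⟨e⟩⟩ := hd
  let φ' : R' ⊗[R] C →ₐc[R'] MonoidAlgebra R' M :=
    (e : R' ⊗[R] A →ₐc[R'] MonoidAlgebra R' M).comp
      (Bialgebra.TensorProduct.map (BialgHom.id R' R') φ)
  let ψ' : R' ⊗[R] C →ₐc[R'] MonoidAlgebra R' M :=
    (e : R' ⊗[R] A →ₐc[R'] MonoidAlgebra R' M).comp
      (Bialgebra.TensorProduct.map (BialgHom.id R' R') ψ)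
  set I' := Ideal.map (algebraMap R R') I with hI'
  have hI'n : IsNilpotent I' := by
    obtain ⟨n, hn⟩ := hI
    refine ⟨n, ?_⟩
    rw [hI', ← Ideal.map_pow, hn, Ideal.zero_eq_bot, Ideal.map_bot]
    rfl
  have H' : ∀ c', φ' c' - ψ' c' ∈ Ideal.map (algebraMap R' (MonoidAlgebra R' M)) I' := by
    intro c'
    induction c' using TensorProduct.induction_on with
    | zero => simp
    | tmul r c =>
      have e1 : φ' (r ⊗ₜ c) - ψ' (r ⊗ₜ c) =
          (e : R' ⊗[R] A →ₐ[R'] MonoidAlgebra R' M) (r ⊗ₜ[R] (φ c - ψ c)) := by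
        simp only [φ', ψ', TensorProduct.tmul_sub, map_sub]
        rfl
      rw [e1]
      apply algHom_mem_map
      have e2 : r ⊗ₜ[R] (φ c - ψ c) = (r ⊗ₜ[R] (1 : A)) *
          (Algebra.TensorProduct.includeRight (R := R) (A := R') (B := A) (φ c - ψ c)) := by
        simp
      rw [e2, hI', map_map_tower]
      exact Ideal.mul_mem_left _ _ (algHom_mem_map _ I (H c))
    | add x y hx hy =>
      have : φ' (x + y) - ψ' (x + y) = (φ' x - ψ' x) + (φ' y - ψ' y) := by
        rw [map_add, map_add]; ring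
      rw [this]
      exact Ideal.add_mem _ hx hy
  have heq := diag_bialgHom_ext_of_nilpotent I' hI'n φ' ψ' H'
  have h1 : e ((1 : R') ⊗ₜ[R] φ c) = e ((1 : R') ⊗ₜ[R] ψ c) :=
    congrArg (fun f : R' ⊗[R] C →ₐc[R'] MonoidAlgebra R' M => f ((1 : R') ⊗ₜ[R] c)) heq
  have h2 := e.injective h1
  rw [TensorProduct.tmul_sub, h2, sub_self]
  exact Ideal.zero_mem _

end Groth.Agent.Lib.Helper6.MultType
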