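import Mathlib
import Groth.Prelude.Def_SGA3b
import Groth.Agent.Lib.Helper6.MultType.Prim

/-!
# Rigidity of the trivial homomorphism from a group of multiplicative type (helper6)
-/

set_option autoImplicit false
universe u
open TensorProduct SGA3b Coalgebra

namespace Groth.Agent.Lib.Helper6.MultType

variable {R : Type u} [CommRing R] {A : Type u} [CommRing A] [HopfAlgebra R A]
variable {C : Type u} [CommRing C] [HopfAlgebra R C]

/-- The difference between a bialgebra map and the trivial one. -/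
noncomputable def dlt (φ : C →ₐc[R] A) : C →ₗ[R] A :=
  (φ : C →ₗ[R] A) - (Algebra.linearMap R A) ∘ₗ (counit : C →ₗ[R] R)

lemma dlt_apply (φ : C →ₐc[R] A) (c : C) :
    dlt φ c = φ c - algebraMap R A (counit (R := R) c) := rfl

lemma phi_eq (φ : C →ₐc[R] A) (c : C) :
    φ c = dlt φ c + algebraMap R A (counit (R := R) c) := by
  rw [dlt_apply]; ring

/-- The primitivity defect of `δ c` is `∑ δ c₁ ⊗ δ c₂`. -/
lemma comul_dlt (φ : C →ₐc[R] A) (c : C) :
    comul (R := R) (dlt φ c) - dlt φ c ⊗ₜ[R] 1 - 1 ⊗ₜ[R] dlt φ c =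
      ∑ i ∈ (ℛ R c).index, dlt φ ((ℛ R c).left i) ⊗ₜ[R] dlt φ ((ℛ R c).right i) := by
  set 𝓡 := ℛ R c with h𝓡
  have E0 : comul (R := R) (φ c) = ∑ i ∈ 𝓡.index, φ (𝓡.left i) ⊗ₜ[R] φ (𝓡.right i) := by
    rw [← CoalgHomClass.map_comp_comul_apply, ← 𝓡.eq, map_sum]
    rfl
  have S1 : ∑ i ∈ 𝓡.index, dlt φ (𝓡.left i) ⊗ₜ[R] algebraMap R A (counit (R := R) (𝓡.right i)) =
      dlt φ c ⊗ₜ[R] 1 := by
    have := congrArg (TensorProduct.map (LinearMap.id : A →ₗ[R] A) (Algebra.linearMap R A))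
      (sum_map_tmul_counit_eq (R := R) (dlt φ) c (repr := 𝓡))
    simp only [map_sum, TensorProduct.map_tmul, Algebra.linearMap_apply, LinearMap.id_coe, id_eq,
      map_one] at this
    exact this
  have S2 : ∑ i ∈ 𝓡.index, algebraMap R A (counit (R := R) (𝓡.left i)) ⊗ₜ[R] dlt φ (𝓡.right i) =
      1 ⊗ₜ[R] dlt φ c := by
    have := congrArg (TensorProduct.map (Algebra.linearMap R A) (LinearMap.id : A →ₗ[R] A))
      (sum_counit_tmul_map_eq (R := R) (dlt φ) c (repr := 𝓡))
    simp only [map_sum, TensorProduct.map_tmul, Algebra.linearMap_apply, LinearMap.id_coe, id_eq,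
      map_one] at this
    exact this
  have S3 : ∑ i ∈ 𝓡.index, algebraMap R A (counit (R := R) (𝓡.left i)) ⊗ₜ[R]
      algebraMap R A (counit (R := R) (𝓡.right i)) =
      algebraMap R (A ⊗[R] A) (counit (R := R) c) := by
    have := congrArg (TensorProduct.map (Algebra.linearMap R A) (LinearMap.id : A →ₗ[R] A))
      (sum_counit_tmul_map_eq (R := R)
        ((Algebra.linearMap R A) ∘ₗ (counit : C →ₗ[R] R)) c (repr := 𝓡))
    simp only [map_sum, TensorProduct.map_tmul, Algebra.linearMap_apply, LinearMap.id_coe, id_eq,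
      LinearMap.coe_comp, Function.comp_apply, map_one] at this
    rw [this, Algebra.TensorProduct.algebraMap_apply, Algebra.algebraMap_eq_smul_one,
      TensorProduct.smul_tmul, ← Algebra.algebraMap_eq_smul_one]
  have E1 : comul (R := R) (dlt φ c) = comul (R := R) (φ c) -
      algebraMap R (A ⊗[R] A) (counit (R := R) c) := by
    rw [dlt_apply, map_sub, Bialgebra.comul_algebraMap]
  rw [E1, E0]
  have E2 : ∀ i, φ (𝓡.left i) ⊗ₜ[R] φ (𝓡.right i) =
      dlt φ (𝓡.left i) ⊗ₜ[R] dlt φ (𝓡.right i) +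
      dlt φ (𝓡.left i) ⊗ₜ[R] algebraMap R A (counit (R := R) (𝓡.right i)) +
      algebraMap R A (counit (R := R) (𝓡.left i)) ⊗ₜ[R] dlt φ (𝓡.right i) +
      algebraMap R A (counit (R := R) (𝓡.left i)) ⊗ₜ[R]
        algebraMap R A (counit (R := R) (𝓡.right i)) := by
    intro i
    conv_lhs => rw [phi_eq φ (𝓡.left i), phi_eq φ (𝓡.right i)]
    rw [TensorProduct.add_tmul, TensorProduct.tmul_add, TensorProduct.tmul_add]
    abel
  simp only [E2, Finset.sum_add_distrib, S1, S2, S3]
  abel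

/-- Key inductive step. -/
lemma dlt_mem_succ (h : IsMultType R A) (φ : C →ₐc[R] A) (I : Ideal R) (k : ℕ) (hk : 1 ≤ k)
    (H : ∀ c, dlt φ c ∈ Ideal.map (algebraMap R A) (I ^ k)) :
    ∀ c, dlt φ c ∈ Ideal.map (algebraMap R A) (I ^ (k + 1)) := by
  intro c
  apply IsMultType.mem_of_approx_prim h
  rw [comul_dlt]
  refine Ideal.sum_mem _ fun i _ => ?_
  have e : dlt φ ((ℛ R c).left i) ⊗ₜ[R] dlt φ ((ℛ R c).right i) =
      (Algebra.TensorProduct.includeLeft (R := R) (S := R) (A := A) (B := A)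
        (dlt φ ((ℛ R c).left i))) *
      (Algebra.TensorProduct.includeRight (R := R) (A := A) (B := A)
        (dlt φ ((ℛ R c).right i))) := by
    simp
  rw [e]
  have h1 := algHom_mem_map (Algebra.TensorProduct.includeLeft (R := R) (S := R) (A := A) (B := A))
    (I ^ k) (H ((ℛ R c).left i))
  have h2 := algHom_mem_map (Algebra.TensorProduct.includeRight (R := R) (A := A) (B := A))
    (I ^ k) (H ((ℛ R c).right i))
  have h3 := Ideal.mul_mem_mul h1 h2
  rw [← Ideal.map_mul, ← pow_add] at h3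
  exact Ideal.map_mono (Ideal.pow_le_pow_right (by omega)) h3

lemma dlt_mem_pow (h : IsMultType R A) (φ : C →ₐc[R] A) (I : Ideal R)
    (H : ∀ c, dlt φ c ∈ Ideal.map (algebraMap R A) I) :
    ∀ k, 1 ≤ k → ∀ c, dlt φ c ∈ Ideal.map (algebraMap R A) (I ^ k) := by
  intro k hk
  induction k, hk using Nat.le_induction with
  | base => simpa using H
  | succ k hk ih => exact dlt_mem_succ h φ I k hk ih

/-- Rigidity: a homomorphism from a group of multiplicative type which is trivial modulo a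
nilpotent ideal is trivial. -/
theorem eq_counit_of_nilpotent (h : IsMultType R A) (φ : C →ₐc[R] A) (I : Ideal R)
    (hI : IsNilpotent I)
    (H : ∀ c, φ c - algebraMap R A (counit (R := R) c) ∈ Ideal.map (algebraMap R A) I) :
    ∀ c, φ c = algebraMap R A (counit (R := R) c) := by
  obtain ⟨n, hn⟩ := hI
  intro c
  have h1 := dlt_mem_pow h φ I H (n + 1) (by omega) c
  rw [pow_succ, hn, Ideal.zero_eq_bot, Ideal.bot_mul, Ideal.map_bot, Ideal.mem_bot, dlt_apply,
    sub_eq_zero] at h1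
  exact h1

/-- The kernel of `A → (R/I) ⊗ A`. -/
lemma mem_map_of_one_tmul_eq_zero (I : Ideal R) (a : A)
    (h : (1 : R ⧸ I) ⊗ₜ[R] a = 0) : a ∈ Ideal.map (algebraMap R A) I := by
  have h1 := congrArg (TensorProduct.quotTensorEquivQuotSMul A I) h
  rw [map_zero] at h1
  have h2 : (TensorProduct.quotTensorEquivQuotSMul A I)
      ((Ideal.Quotient.mk I (1 : R)) ⊗ₜ[R] a) = 0 := h1
  rw [TensorProduct.quotTensorEquivQuotSMul_mk_tmul, one_smul, Submodule.Quotient.mk_eq_zero,
    Ideal.smul_top_eq_map] at h2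
  exact h2

end Groth.Agent.Lib.Helper6.MultType
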